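import Cfsg.Agent.FischerRankThree.Gallai
import Cfsg.Agent.FischerTransitivity.Transitivity
import Cfsg.Agent.Transpositions.Simplicity
import Cfsg.Agent.Transpositions.WidthOne

/-!
# Fischer's rank three property
-/

set_option autoImplicit false

namespace CfsgLib.FischerRankThree

open Cfsg
open scoped commutatorElement

variable {G : Type*} [Group G]

section Simple

variable (hs : IsSimpleGroup (commutator G)) (hna : ∃ x y : commutator G, x * y ≠ y * x)
include hs hna

theorem inf_commutator_eq_bot {N : Subgroup G} [N.Normal] [Group.IsSolvable N] : N ⊓ commutator G = ⊥ := by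
  haveI := hs
  rcases (inferInstance : (N.subgroupOf (commutator G)).Normal).eq_bot_or_eq_top with h | h
  · rw [← Subgroup.subgroupOf_eq_bot.1 h |>.eq_bot]
  · exfalso
    obtain ⟨x, y, hxy⟩ := hna
    have hle := Subgroup.subgroupOf_eq_top.1 h
    haveI : Group.IsSolvable (commutator G) :=
      Group.isSolvable_of_isSolvable_injective (f := Subgroup.inclusion hle) (Subgroup.inclusion_injective hle)
    exact hxy ((IsSimpleGroup.comm_iff_isSolvable.2 inferInstance) x y)

theorem center_inf_commutator : Subgroup.center G ⊓ commutator G = ⊥ := by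
  haveI : Group.IsSolvable (Subgroup.center G) := Group.isSolvable_of_comm fun a b => Subtype.ext
    ((Subgroup.mem_center_iff.1 a.2 b).symm)
  exact inf_commutator_eq_bot hs hna

theorem eq_one_of_mem {x : G} (hZ : x ∈ Subgroup.center G) (hC : x ∈ commutator G) : x = 1 := by
  rw [← Subgroup.mem_bot, ← center_inf_commutator hs hna]
  exact ⟨hZ, hC⟩

theorem solvable_normal_eq_bot (hZ : Subgroup.center G = ⊥) (N : Subgroup G) (hN : N.Normal)
    (hsol : Group.IsSolvable N) : N = ⊥ := by
  haveI := hN
  haveI := hsol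
  rw [eq_bot_iff, ← hZ]
  intro x hx
  rw [Subgroup.mem_center_iff]
  intro g
  have h1 : ⁅x, g⁆ ∈ N := by
    rw [commutatorElement_def, mul_assoc, mul_assoc, ← mul_assoc g]
    exact mul_mem hx (hN.conj_mem _ (inv_mem hx) g)
  have h2 : ⁅x, g⁆ ∈ commutator G :=
    Subgroup.commutator_mem_commutator (Subgroup.mem_top x) (Subgroup.mem_top g)
  have h3 : ⁅x, g⁆ = 1 := by
    rw [← Subgroup.mem_bot, ← inf_commutator_eq_bot hs hna (N := N)]
    exact ⟨h1, h2⟩
  exact (commutatorElement_eq_one_iff_commute.1 h3).eq.symm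

end Simple

variable {D : Set G}

/-- In a triangle with one commuting edge the two other edges are conjugate under the centraliser of
their common end. -/
theorem exists_conj_of_path (hD : IsThreeTranspositionClass D) {a c d : G} (ha : a ∈ D) (hc : c ∈ D)
    (hd : d ∈ D) (hac : ¬ Commute a c) (had : ¬ Commute a d) (hcd : Commute c d) :
    ∃ g : G, g * a * g⁻¹ = a ∧ g * c * g⁻¹ = d := by
  have b1 := FischerTransitivity.braid hD ha hc hac
  have b2 := FischerTransitivity.braid hD ha hd had
  have sa := FischerTransitivity.sq_one hD ha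
  have sc := FischerTransitivity.sq_one hD hc
  have sd := FischerTransitivity.sq_one hD hd
  have ia := FischerTransitivity.inv_self hD ha
  have ic := FischerTransitivity.inv_self hD hc
  have id' := FischerTransitivity.inv_self hD hd
  have hdc : ∀ z : G, d * (c * z) = c * (d * z) := fun z => by rw [← mul_assoc, ← hcd.eq, mul_assoc]
  have cA : ∀ z : G, a * (a * z) = z := fun z => by rw [← mul_assoc, sa, one_mul]
  have cC : ∀ z : G, c * (c * z) = z := fun z => by rw [← mul_assoc, sc, one_mul]
  have cD : ∀ z : G, d * (d * z) = z := fun z => by rw [← mul_assoc, sd, one_mul]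
  have b1' : ∀ z : G, a * (c * (a * z)) = c * (a * (c * z)) := fun z => by
    rw [← mul_assoc, ← mul_assoc, b1, mul_assoc, mul_assoc]
  have b2' : ∀ z : G, a * (d * (a * z)) = d * (a * (d * z)) := fun z => by
    rw [← mul_assoc, ← mul_assoc, b2, mul_assoc, mul_assoc]
  set e := d * (c * (a * (c * d))) with he
  have hea : e * a = a * e := by
    simp only [he, mul_assoc]
    calc d * (c * (a * (c * (d * a)))) = c * (d * (a * (d * (c * a)))) := by
          rw [hdc, show c * (d * a) = d * (c * a) from (hdc a).symm]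
      _ = c * (a * (d * (a * (c * a)))) := by rw [← b2']
      _ = c * (a * (d * (c * (a * c)))) := by rw [show a * (c * a) = c * (a * c) by simpa [mul_assoc] using b1]
      _ = c * (a * (c * (d * (a * c)))) := by rw [hdc]
      _ = a * (c * (a * (d * (a * c)))) := by rw [← b1']
      _ = a * (c * (d * (a * (d * c)))) := by rw [b2']
      _ = a * (d * (c * (a * (c * d)))) := by rw [← hdc, hcd.eq]
  have hece : e * (c * e⁻¹) = d * (a * d) := by
    have hinv : e⁻¹ = d * (c * (a * (c * d))) := by simp [he, mul_inv_rev, ia, ic, id', mul_assoc]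
    rw [hinv, he]
    simp only [mul_assoc]
    have hq : ∀ z : G, c * (d * (c * (d * z))) = z := fun z => by rw [hdc, cC, cD]
    rw [hq, b1', cC, cC]
  refine ⟨a * e, ?_, ?_⟩
  · calc a * e * a * (a * e)⁻¹ = a * (e * a) * e⁻¹ * a⁻¹ := by group
      _ = a := by rw [hea, ia]; simp [mul_assoc, cA]
  · calc a * e * c * (a * e)⁻¹ = a * (e * (c * e⁻¹)) * a⁻¹ := by group
      _ = d := by rw [hece, ia]; simp only [mul_assoc]; rw [b2', cD, sa, mul_one]

variable [Finite G]

theorem exists_commuting_pair (hD : IsThreeTranspositionClass D) (hs : IsSimpleGroup (commutator G))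
    (hna : ∃ x y : commutator G, x * y ≠ y * x) : ∃ a ∈ D, ∃ b ∈ D, a ≠ b ∧ Commute a b := by
  by_contra hno
  push Not at hno
  have hG := Transpositions.isThreeTranspositionGroup_of_class hD
  haveI : Fact (Nat.Prime 3) := ⟨Nat.prime_three⟩
  have hp : IsPGroup 3 (Transpositions.productsSubgroup D) :=
    Transpositions.isPGroup_productsSubgroup_of_braid_aux hG.2.2
      (fun x hx y hy => FischerTransitivity.third_mem hD hx hy)
      (fun x hx y hy => by
        by_cases hxy : x = y
        · rw [hxy]
        · exact FischerTransitivity.braid hD hx hy (hno x hx y hy hxy))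
      (fun x hx => FischerTransitivity.sq_one hD hx)
  haveI := Transpositions.productsSubgroup_normal hG.2.1
  set P := Transpositions.productsSubgroup D
  obtain ⟨a, ha, -⟩ := hD.2.1
  have hcyc : ∀ g : G, (g : G ⧸ P) ∈ Subgroup.zpowers (a : G ⧸ P) := by
    intro g
    induction (hD.2.2 ▸ Subgroup.mem_top g : g ∈ Subgroup.closure D) using Subgroup.closure_induction with
    | mem x hx =>
      have : (a : G ⧸ P) = (x : G ⧸ P) := QuotientGroup.eq.2 (by
        rw [FischerTransitivity.inv_self hD ha]
        exact Transpositions.mul_mem_productsSubgroup ha hx)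
      exact this ▸ Subgroup.mem_zpowers _
    | one => exact one_mem _
    | mul x y _ _ hx hy => exact mul_mem hx hy
    | inv x _ hx => exact inv_mem hx
  have hle : commutator G ≤ P := by
    rw [commutator_def, Subgroup.commutator_le]
    intro g _ h _
    rw [← QuotientGroup.eq_one_iff]
    obtain ⟨i, hi⟩ := Subgroup.mem_zpowers_iff.1 (hcyc g)
    obtain ⟨j, hj⟩ := Subgroup.mem_zpowers_iff.1 (hcyc h)
    rw [← QuotientGroup.mk'_apply, map_commutatorElement, QuotientGroup.mk'_apply,
      QuotientGroup.mk'_apply, ← hi, ← hj, commutatorElement_eq_one_iff_commute]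
    exact (Commute.refl _).zpow_zpow i j
  haveI := hp.isNilpotent
  haveI := hs
  haveI : Group.IsSolvable P := inferInstance
  haveI : Group.IsSolvable (commutator G) :=
    Group.isSolvable_of_isSolvable_injective (f := Subgroup.inclusion hle) (Subgroup.inclusion_injective hle)
  obtain ⟨x, y, hxy⟩ := hna
  exact hxy ((IsSimpleGroup.comm_iff_isSolvable.2 inferInstance) x y)

/-- Fischer's rank three property when the centre is trivial. -/
theorem rank_three (hD : IsThreeTranspositionClass D) (hs : IsSimpleGroup (commutator G))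
    (hna : ∃ x y : commutator G, x * y ≠ y * x) (hZ : Subgroup.center G = ⊥) {a : G} (ha : a ∈ D) :
    (∃ b ∈ D, b ≠ a ∧ Commute a b) ∧ (∃ c ∈ D, ¬ Commute a c) ∧
    (∀ b ∈ D, ∀ b' ∈ D, b ≠ a → b' ≠ a → Commute a b → Commute a b' → ∃ g : G, Commute g a ∧ g * b * g⁻¹ = b') ∧
    (∀ c ∈ D, ∀ c' ∈ D, ¬ Commute a c → ¬ Commute a c' → ∃ g : G, Commute g a ∧ g * c * g⁻¹ = c') := by
  classical
  have hG := Transpositions.isThreeTranspositionGroup_of_class hD
  have hw := exists_commuting_pair hD hs hna
  have hp := Transpositions.primitive_of_isSimpleGroup_commutator hD hw hZ hs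
  have hsol := solvable_normal_eq_bot hs hna hZ
  refine ⟨?_, Transpositions.exists_not_commute_of_class hD hp.2.1 ha, ?_, ?_⟩
  · obtain ⟨x, hx, y, hy, hxy, hc⟩ := hw
    obtain ⟨g, rfl⟩ := FischerTransitivity.exists_conj hD hx ha
    exact ⟨g * y * g⁻¹, FischerTransitivity.conj_mem hD g hy,
      fun h => hxy (mul_left_cancel (mul_right_cancel h)).symm, (Commute.conj_iff g).2 hc⟩
  · intro b hb b' hb' hba hb'a hc hc'
    obtain ⟨g, hg, hgb⟩ := FischerTransitivity.transitive_on_commSet hsol hD ha
      (y := b) (y' := b') ⟨hb, hba, hc⟩ ⟨hb', hb'a, hc'⟩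
    exact ⟨g, Subgroup.mem_centralizer_singleton_iff.1
      (FischerTransitivity.closure_commSet_le_centralizer a hg), hgb⟩
  · intro c hc c' hc' hac hac'
    by_contra hcon
    have hconj : ∀ (g x : G), x ∈ D → g * x * g⁻¹ ∈ D := fun g x hx => FischerTransitivity.conj_mem hD g hx
    let R : G → G → Prop := fun x y => ∃ g : G, g * a * g⁻¹ = x ∧ g * c * g⁻¹ = y
    have hRnc : ∀ x y, R x y → ¬ Commute x y := by
      rintro x y ⟨g, rfl, rfl⟩ h
      exact hac ((Commute.conj_iff g).1 h)
    have hnotR : ¬ R a c' := by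
      rintro ⟨g, hga, hgc⟩
      exact hcon ⟨g, mul_inv_eq_iff_eq_mul.1 hga, hgc⟩
    have hswap : ∀ x ∈ D, ∀ y ∈ D, ¬ Commute x y → (x * y * x) * x * (x * y * x)⁻¹ = y ∧
        (x * y * x) * y * (x * y * x)⁻¹ = x := by
      intro x hx y hy hxy
      have b := FischerTransitivity.braid hD hx hy hxy
      have sx := FischerTransitivity.sq_one hD hx
      have sy := FischerTransitivity.sq_one hD hy
      have ix := FischerTransitivity.inv_self hD hx
      have iy := FischerTransitivity.inv_self hD hy
      constructor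
      · calc (x * y * x) * x * (x * y * x)⁻¹ = (x * y * x) * y⁻¹ * x⁻¹ := by group
          _ = (y * x * y) * y⁻¹ * x⁻¹ := by rw [b]
          _ = y := by group
      · calc (x * y * x) * y * (x * y * x)⁻¹ = (y * x * y) * y * (y * x * y)⁻¹ := by rw [b]
          _ = (y * x * y) * x⁻¹ * y⁻¹ := by group
          _ = (x * y * x) * x⁻¹ * y⁻¹ := by rw [b]
          _ = x := by group
    have hRsymm : ∀ x y, R x y → R y x := by
      intro x y h
      obtain ⟨g, rfl, rfl⟩ := id h
      obtain ⟨h1, h2⟩ := hswap _ (hconj g a ha) _ (hconj g c hc) (hRnc _ _ h)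
      refine ⟨(g * a * g⁻¹ * (g * c * g⁻¹) * (g * a * g⁻¹)) * g, ?_, ?_⟩
      · conv_rhs => rw [← h1]
        group
      · conv_rhs => rw [← h2]
        group
    have hRconj : ∀ g x y, R x y → R (g * x * g⁻¹) (g * y * g⁻¹) := by
      rintro g x y ⟨k, rfl, rfl⟩
      exact ⟨g * k, by group, by group⟩
    -- the colouring
    let col : G → G → Fin 3 := fun x y => if Commute x y then 0 else if R x y then 1 else 2
    have hcsymm : ∀ x y, col x y = col y x := fun x y => by
      simp only [col]
      exact if_congr ⟨fun h => h.symm, fun h => h.symm⟩ rfl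
        (if_congr ⟨hRsymm x y, hRsymm y x⟩ rfl rfl)
    -- no triangle is rainbow
    have hkey : ∀ x y z : G, x ∈ D → y ∈ D → z ∈ D → R x y → ¬ Commute x z → ¬ R x z → ¬ Commute y z := by
      intro x y z hx hy hz hxy hxz hnR hyz
      obtain ⟨g, hgx, hgy⟩ := exists_conj_of_path hD hx hy hz (hRnc _ _ hxy) hxz hyz
      apply hnR
      have := hRconj g x y hxy
      rwa [hgx, hgy] at this
    let cs : D → D → Fin 3 := fun x y => col x.1 y.1
    have hc0 : ∀ x y : D, cs x y = 0 ↔ Commute x.1 y.1 := fun x y => by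
      simp only [cs, col]; split_ifs <;> simp [*]
    have hc1 : ∀ x y : D, cs x y = 1 ↔ R x.1 y.1 := fun x y => by
      simp only [cs, col]
      split_ifs with h1 h2
      · simp only [Fin.zero_eq_one_iff, OfNat.ofNat_ne_one, false_iff]
        exact fun h => hRnc _ _ h h1
      · simp [h2]
      · simpa using h2
    have hc2 : ∀ x y : D, cs x y = 2 ↔ ¬ Commute x.1 y.1 ∧ ¬ R x.1 y.1 := fun x y => by
      simp only [cs, col]; split_ifs <;> simp [*]
    have hrain : ∀ x y z : D, x ≠ y → x ≠ z → y ≠ z →
        ¬ (cs x y ≠ cs x z ∧ cs x y ≠ cs y z ∧ cs x z ≠ cs y z) := by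
      -- the centre is the vertex opposite the commuting edge
      have main : ∀ x y z : D, cs x y = 1 → cs x z = 2 → cs y z ≠ 0 := by
        intro x y z h1 h2 h0
        exact hkey _ _ _ x.2 y.2 z.2 ((hc1 _ _).1 h1) ((hc2 _ _).1 h2).1 ((hc2 _ _).1 h2).2 ((hc0 _ _).1 h0)
      intro x y z _ _ _ h
      have s : ∀ p q : D, cs p q = cs q p := fun p q => hcsymm _ _
      have h1 := main x y z
      have h2 : cs x z = 1 → cs x y = 2 → cs y z ≠ 0 := fun u v => by rw [s y z]; exact main x z y u v
      have h3 : cs x y = 1 → cs y z = 2 → cs x z ≠ 0 := fun u v => main y x z ((s y x).trans u) v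
      have h4 : cs y z = 1 → cs x y = 2 → cs x z ≠ 0 := fun u v => by
        rw [s x z]; exact main y z x u ((s y x).trans v)
      have h5 : cs x z = 1 → cs y z = 2 → cs x y ≠ 0 := fun u v =>
        main z x y ((s z x).trans u) ((s z y).trans v)
      have h6 : cs y z = 1 → cs x z = 2 → cs x y ≠ 0 := fun u v => by
        rw [s x y]; exact main z y x ((s z y).trans u) ((s z x).trans v)
      revert h1 h2 h3 h4 h5 h6 h
      generalize cs x y = p
      generalize cs x z = q
      generalize cs y z = r
      revert p q r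
      decide
    haveI : Fintype D := Fintype.ofFinite _
    -- each colour spans
    have hspan : ∀ i, Spans cs (Finset.univ : Finset D) i := by
      intro i S _ hSne hSu
      by_contra hno
      push Not at hno
      let T : G → G → Prop := fun x y =>
        Relation.ReflTransGen (fun p q : G => p ∈ D ∧ q ∈ D ∧ col p q = i ∧ p ≠ q) x y
      obtain ⟨d, v, hd, hv, hdv, hne⟩ : ∃ d v, d ∈ D ∧ v ∈ D ∧ col d v = i ∧ d ≠ v := by
        have hcases : i = 0 ∨ i = 1 ∨ i = 2 := (by decide : ∀ i : Fin 3, i = 0 ∨ i = 1 ∨ i = 2) i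
        rcases hcases with rfl | rfl | rfl
        · obtain ⟨x, hx, y, hy, hxy, h⟩ := hw
          exact ⟨x, y, hx, hy, if_pos h, hxy⟩
        · exact ⟨a, c, ha, hc, by rw [show col a c = if Commute a c then 0 else if R a c then 1 else 2 from rfl,
            if_neg hac, if_pos ⟨1, by simp, by simp⟩], fun e => hac (e ▸ Commute.refl a)⟩
        · exact ⟨a, c', ha, hc', by rw [show col a c' = if Commute a c' then 0 else if R a c' then 1 else 2 from rfl,
            if_neg hac', if_neg hnotR], fun e => hac' (e ▸ Commute.refl a)⟩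
      have hTsymm : ∀ x y, T x y → T y x := by
        intro x y h
        induction h with
        | refl => exact Relation.ReflTransGen.refl
        | tail _ hbc ih =>
          exact Relation.ReflTransGen.head ⟨hbc.2.1, hbc.1, (hcsymm _ _).trans hbc.2.2.1, hbc.2.2.2.symm⟩ ih
      have hall := Transpositions.eq_of_primitive_relation hp T
        (fun x _ => Relation.ReflTransGen.refl) (fun x _ y _ h => hTsymm x y h)
        (fun x _ y _ z _ h h' => h.trans h') hG.2.1
        (fun g x _ y hy h => by
          clear hy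
          induction h with
          | refl => exact Relation.ReflTransGen.refl
          | @tail p q _ hpq ih =>
          refine ih.tail ⟨hconj g p hpq.1, hconj g q hpq.2.1, ?_, fun e => hpq.2.2.2 (mul_left_cancel (mul_right_cancel e))⟩
          rw [← hpq.2.2.1]
          simp only [col]
          refine if_congr (Commute.conj_iff g) rfl (if_congr ⟨fun h => ?_, hRconj g p q⟩ rfl rfl)
          have := hRconj g⁻¹ _ _ h
          simpa [mul_assoc] using this)
        hd hv (Relation.ReflTransGen.single ⟨hd, hv, hdv, hne⟩) hne.symm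
      obtain ⟨s, hs'⟩ := hSne
      obtain ⟨t, -, ht⟩ : ∃ t ∈ (Finset.univ : Finset D), t ∉ S := by
        by_contra h
        push Not at h
        exact hSu (Finset.eq_univ_iff_forall.2 fun x => h x (Finset.mem_univ x))
      have hreach : T s.1 t.1 := (hTsymm _ _ (hall s.1 s.2)).trans (hall t.1 t.2)
      have hin : ∀ x y, T x y → ∀ hx : x ∈ D, (⟨x, hx⟩ : D) ∈ S → ∀ hy : y ∈ D, (⟨y, hy⟩ : D) ∈ S := by
        intro x y h
        induction h with
        | refl => intro hx hm hy; exact hm
        | @tail p q _ hpq ih =>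
          intro hx hm hy
          by_contra hn
          exact hno _ (ih hx hm hpq.1) ⟨q, hy⟩ (Finset.mem_univ _) hn hpq.2.2.1
      exact ht (hin _ _ hreach s.2 hs' t.2)
    refine not_spans_all cs (fun x y => hcsymm _ _) hrain Finset.univ ?_ hspan
    obtain ⟨x, hx, y, hy, hxy, -⟩ := hw
    exact Finset.one_lt_card.2 ⟨⟨x, hx⟩, Finset.mem_univ _, ⟨y, hy⟩, Finset.mem_univ _,
      fun e => hxy (congrArg Subtype.val e)⟩

/-- Fischer's rank three property. -/
theorem rank_three' (hD : IsThreeTranspositionClass D) (hs : IsSimpleGroup (commutator G))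
    (hna : ∃ x y : commutator G, x * y ≠ y * x) {a : G} (ha : a ∈ D) :
    (∃ b ∈ D, b ≠ a ∧ Commute a b) ∧ (∃ c ∈ D, ¬ Commute a c) ∧
    (∀ b ∈ D, ∀ b' ∈ D, b ≠ a → b' ≠ a → Commute a b → Commute a b' → ∃ g : G, Commute g a ∧ g * b * g⁻¹ = b') ∧
    (∀ c ∈ D, ∀ c' ∈ D, ¬ Commute a c → ¬ Commute a c' → ∃ g : G, Commute g a ∧ g * c * g⁻¹ = c') := by
  set π := QuotientGroup.mk' (Subgroup.center G) with hπ
  have hsurj : Function.Surjective π := QuotientGroup.mk'_surjective _
  have hker : ∀ x : G, π x = 1 ↔ x ∈ Subgroup.center G := fun x => QuotientGroup.eq_one_iff x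
  have hcomm : ∀ x y : G, Commute (π x) (π y) → Commute x y := fun x y h => by
    rw [← commutatorElement_eq_one_iff_commute, ← map_commutatorElement, hker] at h
    exact commutatorElement_eq_one_iff_commute.1 (eq_one_of_mem hs hna h
      (Subgroup.commutator_mem_commutator (Subgroup.mem_top x) (Subgroup.mem_top y)))
  have hinj : ∀ x ∈ D, ∀ y ∈ D, π x = π y → x = y := by
    intro x hx y hy h
    have h1 : x * y ∈ Subgroup.center G := by
      rw [← hker, map_mul, h, ← map_mul, FischerTransitivity.sq_one hD hy, map_one]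
    obtain ⟨g, rfl⟩ := FischerTransitivity.exists_conj hD hx hy
    have h2 : x * (g * x * g⁻¹) ∈ commutator G := by
      have : x * (g * x * g⁻¹) = ⁅x, g⁆ := by
        rw [commutatorElement_def, FischerTransitivity.inv_self hD hx]; group
      rw [this]
      exact Subgroup.commutator_mem_commutator (Subgroup.mem_top x) (Subgroup.mem_top g)
    have h3 := eq_one_of_mem hs hna h1 h2
    exact (inv_eq_of_mul_eq_one_right h3).symm.trans (by rw [FischerTransitivity.inv_self hD hx]) |>.symm
  have hD' : IsThreeTranspositionClass (π '' D) := by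
    refine ⟨⟨?_, ?_⟩, ?_, ?_⟩
    · rintro _ ⟨x, hx, rfl⟩
      refine orderOf_eq_prime ?_ fun h => ?_
      · rw [pow_two, ← map_mul, FischerTransitivity.sq_one hD hx, map_one]
      · rw [hker] at h
        have hall : ∀ y ∈ D, y = x := by
          intro y hy
          obtain ⟨g, rfl⟩ := FischerTransitivity.exists_conj hD hx hy
          rw [Subgroup.mem_center_iff.1 h g, mul_inv_cancel_right]
        obtain ⟨u, v, huv⟩ := hna
        apply huv
        have hcl : ∀ g : G, Commute g x := fun g => Subgroup.mem_center_iff.1 h g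
        have hG : ∀ g : G, g ∈ Subgroup.zpowers x := fun g => by
          have hgD : g ∈ Subgroup.closure D := hD.2.2.symm ▸ Subgroup.mem_top g
          exact (Subgroup.closure_le (Subgroup.zpowers x)).2
            (fun y hy => hall y hy ▸ Subgroup.mem_zpowers x) hgD
        obtain ⟨i, hi⟩ := Subgroup.mem_zpowers_iff.1 (hG (u : G))
        obtain ⟨j, hj⟩ := Subgroup.mem_zpowers_iff.1 (hG (v : G))
        apply Subtype.ext
        show (u : G) * v = v * u
        rw [← hi, ← hj]
        exact ((Commute.refl x).zpow_zpow i j).eq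
    · rintro _ ⟨x, hx, rfl⟩ _ ⟨y, hy, rfl⟩
      rcases hD.1.2 x hx y hy with h | h
      · exact Or.inl (by rw [← map_mul, ← map_pow, h, map_one])
      · exact Or.inr (by rw [← map_mul, ← map_pow, h, map_one])
    · obtain ⟨d, hd, he⟩ := hD.2.1
      refine ⟨π d, ⟨d, hd, rfl⟩, Set.ext fun z => ⟨?_, ?_⟩⟩
      · rintro ⟨x, hx, rfl⟩
        rw [he] at hx
        exact π.map_isConj hx
      · intro hz
        obtain ⟨k, hk⟩ := isConj_iff.1 (show IsConj (π d) z from hz)
        obtain ⟨k', rfl⟩ := hsurj k
        exact ⟨k' * d * k'⁻¹, FischerTransitivity.conj_mem hD k' hd, by rw [← hk]; simp⟩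
    · rw [← MonoidHom.map_closure, hD.2.2]
      exact Subgroup.map_top_of_surjective _ hsurj
  have hmap : (commutator G).map π = commutator (G ⧸ Subgroup.center G) := by
    rw [commutator_def, Subgroup.map_commutator, Subgroup.map_top_of_surjective _ hsurj, ← commutator_def]
  have hinj' : Function.Injective ((π.comp (commutator G).subtype)) := by
    rw [injective_iff_map_eq_one]
    intro x hx
    exact Subtype.ext (eq_one_of_mem hs hna ((hker _).1 hx) x.2)
  have e : (commutator G) ≃* (commutator (G ⧸ Subgroup.center G)) :=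
    (MonoidHom.ofInjective hinj').trans (MulEquiv.subgroupCongr (by
      rw [MonoidHom.range_comp, Subgroup.range_subtype, hmap]))
  haveI := hs
  have hs' : IsSimpleGroup (commutator (G ⧸ Subgroup.center G)) := e.symm.isSimpleGroup
  have hna' : ∃ x y : commutator (G ⧸ Subgroup.center G), x * y ≠ y * x := by
    obtain ⟨x, y, h⟩ := hna
    exact ⟨e x, e y, fun he => h (e.injective (by rw [map_mul, map_mul, he]))⟩
  have hZ' : Subgroup.center (G ⧸ Subgroup.center G) = ⊥ := by
    rw [eq_bot_iff]
    intro z hz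
    obtain ⟨x, rfl⟩ := hsurj z
    rw [Subgroup.mem_bot, hker, Subgroup.mem_center_iff]
    intro g
    exact (hcomm g x (Subgroup.mem_center_iff.1 hz (π g))).eq
  obtain ⟨h1, h2, h3, h4⟩ := rank_three hD' hs' hna' hZ' (a := π a) ⟨a, ha, rfl⟩
  have lift : ∀ x ∈ D, ∀ y ∈ D, (∃ g, Commute g (π a) ∧ g * π x * g⁻¹ = π y) →
      ∃ g : G, Commute g a ∧ g * x * g⁻¹ = y := by
    rintro x hx y hy ⟨k, hk, hkx⟩
    obtain ⟨g, rfl⟩ := hsurj k
    refine ⟨g, hcomm g a hk, hinj _ (FischerTransitivity.conj_mem hD g hx) y hy ?_⟩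
    rw [map_mul, map_mul, map_inv]
    exact hkx
  refine ⟨?_, ?_, ?_, ?_⟩
  · obtain ⟨_, ⟨b, hb, rfl⟩, hne, hc⟩ := h1
    exact ⟨b, hb, fun h => hne (h ▸ rfl), hcomm a b hc⟩
  · obtain ⟨_, ⟨c, hc, rfl⟩, hn⟩ := h2
    exact ⟨c, hc, fun h => hn (h.map π)⟩
  · intro b hb b' hb' hba hb'a hc hc'
    exact lift b hb b' hb' (h3 _ ⟨b, hb, rfl⟩ _ ⟨b', hb', rfl⟩ (fun h => hba (hinj b hb a ha h))
      (fun h => hb'a (hinj b' hb' a ha h)) (hc.map π) (hc'.map π))
  · intro c hc c' hc' hn hn'
    exact lift c hc c' hc' (h4 _ ⟨c, hc, rfl⟩ _ ⟨c', hc', rfl⟩ (fun h => hn (hcomm a c h))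
      (fun h => hn' (hcomm a c' h)))

end CfsgLib.FischerRankThree
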