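import Mathlib

/-!
# Gallai's lemma on three-coloured complete graphs

If the edges of a finite complete graph are coloured with three colours so that no triangle gets all
three, then some colour class fails to connect all the vertices.
-/

set_option autoImplicit false

namespace CfsgLib.FischerRankThree

variable {X : Type*}

/-- The colour `i` connects `V`: every cut of `V` is crossed by an edge of colour `i`. -/
def Spans (col : X → X → Fin 3) (V : Finset X) (i : Fin 3) : Prop :=
  ∀ S ⊆ V, S.Nonempty → S ≠ V → ∃ x ∈ S, ∃ y ∈ V, y ∉ S ∧ col x y = i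

theorem fin3_eq_of_not_rainbow {i a b : Fin 3} (h : ¬ (i ≠ a ∧ i ≠ b ∧ a ≠ b)) (ha : i ≠ a)
    (hb : i ≠ b) : a = b := by
  by_contra h'
  exact h ⟨ha, hb, h'⟩

open scoped Classical in
/-- Gallai's lemma. -/
theorem not_spans_all (col : X → X → Fin 3) (hsymm : ∀ x y, col x y = col y x)
    (hrain : ∀ x y z, x ≠ y → x ≠ z → y ≠ z →
      ¬ (col x y ≠ col x z ∧ col x y ≠ col y z ∧ col x z ≠ col y z)) :
    ∀ V : Finset X, 2 ≤ V.card → ¬ ∀ i, Spans col V i := by
  intro V
  induction V using Finset.strongInduction with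
  | _ V ih =>
  intro hV hsp
  obtain ⟨v, hv⟩ := Finset.card_pos.1 (by omega : 0 < V.card)
  set W := V.erase v with hW
  have hWV : W ⊂ V := Finset.erase_ssubset hv
  -- every colour leaves `v`
  have hleave : ∀ i, ∃ y ∈ W, col v y = i := by
    intro i
    obtain ⟨x, hx, y, hy, hyS, hc⟩ := hsp i {v} (by simpa using hv) (Finset.singleton_nonempty v)
      (by intro h; rw [← h] at hV; simp at hV)
    rw [Finset.mem_singleton] at hx
    subst hx
    exact ⟨y, Finset.mem_erase.2 ⟨by simpa using hyS, hy⟩, hc⟩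
  by_cases hW2 : W.card ≤ 1
  · obtain ⟨y, hy, h0⟩ := hleave 0
    obtain ⟨y', hy', h1⟩ := hleave 1
    rw [Finset.card_le_one.1 hW2 y hy y' hy', h1] at h0
    exact absurd h0 (by decide)
  obtain ⟨i, hi⟩ := not_forall.1 (ih W hWV (by omega))
  unfold Spans at hi
  push Not at hi
  obtain ⟨S, hSW, hSne, hSW', hno⟩ := hi
  let E : X → X → Prop := fun x y => x ∈ W ∧ y ∈ W ∧ x ≠ y ∧ col x y = i
  let Eq' : X → X → Prop := Relation.ReflTransGen E
  have hEsymm : ∀ x y, Eq' x y → Eq' y x := by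
    intro x y h
    induction h with
    | refl => exact Relation.ReflTransGen.refl
    | tail _ hbc ih => exact Relation.ReflTransGen.head ⟨hbc.2.1, hbc.1, hbc.2.2.1.symm, (hsymm _ _).trans hbc.2.2.2⟩ ih
  have hstay : ∀ x y, Eq' x y → x ∈ W → y ∈ W := fun x y h hx => by
    induction h with
    | refl => exact hx
    | tail _ hbc _ => exact hbc.2.1
  -- two classes are joined by edges of a single colour
  have hconst : ∀ x x' y, Eq' x x' → x ∈ W → y ∈ W → ¬ Eq' x y → col x y = col x' y := by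
    intro x x' y h hx hy hny
    induction h with
    | refl => rfl
    | @tail b c hxb hbc ih =>
      rw [ih]
      have hb : ¬ Eq' b y := fun h' => hny (hxb.trans h')
      have hc : ¬ Eq' c y := fun h' => hny ((hxb.tail hbc).trans h')
      have hby : b ≠ y := fun e => hb (e ▸ Relation.ReflTransGen.refl)
      have hcy : c ≠ y := fun e => hc (e ▸ Relation.ReflTransGen.refl)
      have h1 : col b y ≠ i := fun e => hb (Relation.ReflTransGen.single ⟨hbc.1, hy, hby, e⟩)
      have h2 : col c y ≠ i := fun e => hc (Relation.ReflTransGen.single ⟨hbc.2.1, hy, hcy, e⟩)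
      have := hrain b c y hbc.2.2.1 hby hcy
      rw [hbc.2.2.2] at this
      exact fin3_eq_of_not_rainbow this (Ne.symm h1) (Ne.symm h2)
  -- every class receives an edge of colour `i` from `v`
  have hrecv : ∀ x ∈ W, ∃ x', Eq' x x' ∧ col v x' = i := by
    intro x hx
    obtain ⟨a, ha, b, hb, hbS, hc⟩ := hsp i (W.filter fun y => Eq' x y)
      ((Finset.filter_subset _ _).trans hWV.subset)
      ⟨x, Finset.mem_filter.2 ⟨hx, Relation.ReflTransGen.refl⟩⟩
      (fun h => by
        have := (h.symm ▸ hv : v ∈ W.filter fun y => Eq' x y)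
        exact (Finset.mem_erase.1 (Finset.mem_filter.1 this).1).1 rfl)
    obtain ⟨haW, hxa⟩ := Finset.mem_filter.1 ha
    by_cases hbv : b = v
    · exact ⟨a, hxa, by rw [← hbv, hsymm]; exact hc⟩
    · have hbW : b ∈ W := Finset.mem_erase.2 ⟨hbv, hb⟩
      exact absurd (Finset.mem_filter.2 ⟨hbW, hxa.tail ⟨haW, hbW, fun e => hbS (e ▸ ha), hc⟩⟩) hbS
  -- the colour of an edge at `v` spreads
  have hspread : ∀ y ∈ W, col v y ≠ i → ∀ x ∈ W, ¬ Eq' x y → col x y = col v y := by
    intro y hy hne x hx hxy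
    obtain ⟨x', hxx', hx'⟩ := hrecv x hx
    have hx'W := hstay x x' hxx' hx
    rw [hconst x x' y hxx' hx hy hxy]
    have hn : ¬ Eq' x' y := fun h => hxy (hxx'.trans h)
    have hx'y : x' ≠ y := fun e => hn (e ▸ Relation.ReflTransGen.refl)
    have h2 : col x' y ≠ i := fun e => hn (Relation.ReflTransGen.single ⟨hx'W, hy, hx'y, e⟩)
    have := hrain v x' y (Finset.mem_erase.1 hx'W).1.symm (Finset.mem_erase.1 hy).1.symm hx'y
    rw [hx'] at this
    exact (fin3_eq_of_not_rainbow this (Ne.symm hne) (Ne.symm h2)).symm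
  -- a second class
  obtain ⟨s, hs⟩ := hSne
  obtain ⟨t, htW, htS⟩ : ∃ t ∈ W, t ∉ S := by
    by_contra h
    push Not at h
    exact hSW' (Finset.Subset.antisymm hSW h)
  have hclosed : ∀ x, Eq' s x → x ∈ S := by
    intro x h
    induction h with
    | refl => exact hs
    | tail _ hbc ih =>
      by_contra hc
      exact hno _ ih _ hbc.2.1 hc hbc.2.2.2
  have hst : ¬ Eq' s t := fun h => htS (hclosed t h)
  -- the other two colours
  obtain ⟨j, k, hji, hki, hjk⟩ : ∃ j k : Fin 3, j ≠ i ∧ k ≠ i ∧ j ≠ k :=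
    ⟨i + 1, i + 2, (by decide : ∀ i : Fin 3, i + 1 ≠ i ∧ i + 2 ≠ i ∧ i + 1 ≠ i + 2) i⟩
  obtain ⟨y, hy, hyj⟩ := hleave j
  obtain ⟨z, hz, hzk⟩ := hleave k
  by_cases hyz : Eq' y z
  · obtain ⟨x, hx, hxy⟩ : ∃ x ∈ W, ¬ Eq' x y := by
      by_cases hsy : Eq' s y
      · exact ⟨t, htW, fun h => hst (hsy.trans (hEsymm _ _ h))⟩
      · exact ⟨s, hSW hs, hsy⟩
    have h1 := hspread y hy (hyj.symm ▸ hji) x hx hxy
    have h2 := hspread z hz (hzk.symm ▸ hki) x hx (fun h => hxy (h.trans (hEsymm _ _ hyz)))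
    rw [hsymm, hconst y z x hyz hy hx (fun h => hxy (hEsymm _ _ h)), hsymm, h2, hyj, hzk] at h1
    exact hjk h1.symm
  · have h1 := hspread y hy (hyj.symm ▸ hji) z hz (fun h => hyz (hEsymm _ _ h))
    have h2 := hspread z hz (hzk.symm ▸ hki) y hy hyz
    rw [hsymm, h2, hyj, hzk] at h1
    exact hjk h1.symm

end CfsgLib.FischerRankThree
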